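import Mathlib
import Groth.Agent.SDiv28.WeakAssPullback
import Groth.Agent.S1192

/-!
# Weakly associated primes descend along extensions of the ground field
-/

set_option autoImplicit false

universe u

open TensorProduct
open Groth.Agent.CAlgH3 (annEl mem_annEl)

namespace Groth.Agent.WeakAssK8

attribute [local instance] Algebra.TensorProduct.rightAlgebra

variable (k K R : Type u) [Field k] [Field K] [Algebra k K] [CommRing R] [Algebra k R]
  (RK : Type u) [CommRing RK] [Algebra k RK] [Algebra K RK] [Algebra R RK]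
  [IsScalarTower k K RK] [IsScalarTower k R RK]

/-- The comparison map from the base change to a subalgebra. -/
noncomputable def stage (D : Subalgebra k K) : R ⊗[k] D →ₐ[R] RK :=
  Algebra.TensorProduct.lift (Algebra.ofId R RK) ((IsScalarTower.toAlgHom k K RK).comp D.val)
    (fun _ _ => Commute.all _ _)

theorem stage_tmul (D : Subalgebra k K) (r : R) (d : D) :
    stage k K R RK D (r ⊗ₜ d) = algebraMap R RK r * algebraMap K RK (d : K) := by
  simp [stage, Algebra.ofId_apply]

variable [Algebra.IsPushout k K R RK]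

theorem exists_finset_mem_range (w : RK) :
    ∃ s : Finset K, ∀ D : Subalgebra k K, (↑s : Set K) ⊆ D → w ∈ Set.range (stage k K R RK D) := by
  classical
  refine IsBaseChange.inductionOn (Algebra.IsPushout.out (R := k) (S := K) (R' := R) (S' := RK)) w _
    ⟨∅, fun D _ => ⟨0, map_zero _⟩⟩ (fun r => ⟨∅, fun D _ => ⟨r ⊗ₜ 1, by simp [stage_tmul]⟩⟩)
    (fun x w ⟨s, hs⟩ => ⟨insert x s, fun D hD => ?_⟩)
    (fun a b ⟨s, hs⟩ ⟨t, ht⟩ => ⟨s ∪ t, fun D hD => ?_⟩)
  · rw [Finset.coe_insert, Set.insert_subset_iff] at hD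
    obtain ⟨v, hv⟩ := hs D hD.2
    refine ⟨(1 : R) ⊗ₜ[k] (⟨x, hD.1⟩ : D) * v, ?_⟩
    rw [map_mul, hv, stage_tmul, map_one, one_mul, Algebra.smul_def]
  · rw [Finset.coe_union, Set.union_subset_iff] at hD
    obtain ⟨v, hv⟩ := hs D hD.1
    obtain ⟨v', hv'⟩ := ht D hD.2
    exact ⟨v + v', by rw [map_add, hv, hv']⟩

theorem exists_finset_tensor (M : Type u) [AddCommGroup M] [Module R M] (c : RK ⊗[R] M) :
    ∃ s : Finset K, ∀ D : Subalgebra k K, (↑s : Set K) ⊆ D →
      c ∈ LinearMap.range ((stage k K R RK D).toLinearMap.rTensor M) := by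
  classical
  induction c with
  | zero => exact ⟨∅, fun D _ => Submodule.zero_mem _⟩
  | tmul w m =>
    obtain ⟨s, hs⟩ := exists_finset_mem_range k K R RK w
    refine ⟨s, fun D hD => ?_⟩
    obtain ⟨v, hv⟩ := hs D hD
    exact ⟨v ⊗ₜ m, by rw [LinearMap.rTensor_tmul, AlgHom.toLinearMap_apply, hv]⟩
  | add a b ha hb =>
    obtain ⟨s, hs⟩ := ha
    obtain ⟨t, ht⟩ := hb
    refine ⟨s ∪ t, fun D hD => ?_⟩
    rw [Finset.coe_union, Set.union_subset_iff] at hD
    exact Submodule.add_mem _ (hs D hD.1) (ht D hD.2)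

theorem flat_stage (D : Subalgebra k K) : (stage k K R RK D).toRingHom.Flat := by
  letI : Algebra (R ⊗[k] D) RK := (stage k K R RK D).toRingHom.toAlgebra
  haveI : IsScalarTower R (R ⊗[k] D) RK := IsScalarTower.of_algHom (stage k K R RK D)
  haveI : IsScalarTower D (R ⊗[k] D) RK := IsScalarTower.of_algebraMap_eq fun d => by
    change algebraMap K RK (d : K) = stage k K R RK D (1 ⊗ₜ d)
    rw [stage_tmul, map_one, one_mul]
  haveI : IsScalarTower k (R ⊗[k] D) RK := IsScalarTower.of_algebraMap_eq (R := k) (S := R ⊗[k] D) (A := RK) fun x => by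
    rw [IsScalarTower.algebraMap_apply k R RK]
    exact ((stage k K R RK D).commutes (algebraMap k R x)).symm
  haveI : Algebra.IsPushout k D R (R ⊗[k] D) :=
    (inferInstance : Algebra.IsPushout k R D (R ⊗[k] D)).symm
  haveI hP : Algebra.IsPushout D K (R ⊗[k] D) RK := Algebra.IsPushout.comp_iff k D R (R ⊗[k] D) |>.1 inferInstance
  haveI : Module.Flat D K := by
    letI := FractionRing.liftAlgebra D K
    exact Module.Flat.trans D (FractionRing D) K
  change Module.Flat (R ⊗[k] D) RK
  haveI := hP.symm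
  exact Module.Flat.isBaseChange D (R ⊗[k] D) K RK
    (Algebra.IsPushout.out (R := D) (S := R ⊗[k] D) (R' := K) (S' := RK))

include k K in
/-- Weakly associated primes descend. -/
theorem comap_mem_weakAss (M : Type u) [AddCommGroup M] [Module R M] (c : RK ⊗[R] M)
    (q : Ideal RK) (hq : q ∈ (annEl RK c).minimalPrimes) :
    q.comap (algebraMap R RK) ∈ FlatCA.weakAss R M := by
  classical
  haveI := hq.1.1
  obtain ⟨s, hs⟩ := exists_finset_tensor k K R RK M c
  let D : Subalgebra k K := Algebra.adjoin k (↑s : Set K)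
  haveI : Algebra.FiniteType k D := (Subalgebra.fg_iff_finiteType D).1 ⟨s, rfl⟩
  haveI : Algebra.FinitePresentation k D := Algebra.FinitePresentation.of_finiteType.1 inferInstance
  obtain ⟨c₀, hc₀⟩ := hs D Algebra.subset_adjoin
  let S := R ⊗[k] D
  letI : Algebra S RK := (stage k K R RK D).toRingHom.toAlgebra
  haveI : IsScalarTower R S RK := IsScalarTower.of_algHom (stage k K R RK D)
  haveI : Module.Flat S RK := flat_stage k K R RK D
  let e : RK ⊗[S] (S ⊗[R] M) ≃ₗ[RK] RK ⊗[R] M :=
    TensorProduct.AlgebraTensorModule.cancelBaseChange R S RK RK M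
  have he : ∀ c₀ : S ⊗[R] M,
      e ((1 : RK) ⊗ₜ[S] c₀) = (stage k K R RK D).toLinearMap.rTensor M c₀ := by
    intro c₀
    induction c₀ with
    | zero => simp
    | tmul v m =>
      rw [TensorProduct.AlgebraTensorModule.cancelBaseChange_tmul, LinearMap.rTensor_tmul,
        Algebra.smul_def, mul_one]
      rfl
    | add a b ha hb => rw [TensorProduct.tmul_add, map_add, map_add, ha, hb]
  have hann : annEl RK c = (annEl S c₀).map (algebraMap S RK) := by
    rw [← SDiv28.annEl_one_tmul, ← hc₀, ← he]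
    exact CAlgH3.annEl_map_of_injective e.toLinearMap e.injective _
  let q₀ : Ideal S := q.comap (algebraMap S RK)
  have hq₀ : q₀ ∈ (annEl S c₀).minimalPrimes := by
    refine ⟨⟨inferInstance, Ideal.map_le_iff_le_comap.1 (hann ▸ hq.1.2)⟩, ?_⟩
    rintro P ⟨hP, hJP⟩ hle
    haveI := hP
    haveI : q.LiesOver q₀ := ⟨rfl⟩
    obtain ⟨P', hP'q, hP'p, hP'⟩ := Ideal.exists_ideal_le_liesOver_of_le (p := P) (q := q₀) q hle
    have h1 : q ≤ P' := hq.2 ⟨hP'p, by
      rw [hann]
      exact Ideal.map_le_iff_le_comap.2 (hJP.trans hP'.over.le)⟩ hP'q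
    exact (Ideal.comap_mono h1).trans hP'.over.ge
  haveI : q₀.LiesOver (q.comap (algebraMap R RK)) := ⟨by
    rw [IsScalarTower.algebraMap_eq R S RK, ← Ideal.comap_comap]⟩
  exact ((S1192.result (R := R) (S := S) S M (q.comap (algebraMap R RK)) q₀).1
    ⟨c₀, hq₀⟩).1

end Groth.Agent.WeakAssK8
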