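import Mathlib
import Groth.Agent.WeakAssK8.Algebra
import Groth.Agent.SDiv28.WeakAssPoints
import Groth.Agent.ModStalk.Pullback
import Groth.Agent.Props12.Stalks
import Groth.Agent.S6372

/-!
# Local rings of a base change to a field, and descent of weakly associated points
-/

set_option autoImplicit false
set_option backward.isDefEq.respectTransparency.types false

universe u

open CategoryTheory Limits AlgebraicGeometry TensorProduct IsLocalRing
open Groth.Agent.CAlgH3 (annEl mem_annEl)

namespace Groth.Agent.WeakAssK8

attribute [local instance] Algebra.TensorProduct.rightAlgebra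

/-- A flat local epimorphism identifies the target with a localisation. -/
theorem isLocalization_of_flat_epi {C T : Type u} [CommRing C] [CommRing T] [IsLocalRing T]
    [Algebra C T] [Module.Flat C T] [Algebra.IsEpi C T] :
    IsLocalization.AtPrime T ((maximalIdeal T).comap (algebraMap C T)) := by
  let q := (maximalIdeal T).comap (algebraMap C T)
  have hu : ∀ s : q.primeCompl, IsUnit (algebraMap C T s) := fun s =>
    by_contra fun h => s.2 ((mem_maximalIdeal _).2 h)
  let Cq := Localization.AtPrime q
  letI : Algebra Cq T := (IsLocalization.lift hu).toAlgebra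
  haveI : IsScalarTower C Cq T := IsScalarTower.of_algebraMap_eq fun x => (IsLocalization.lift_eq hu x).symm
  haveI : Module.Flat Cq T := (Module.flat_iff_of_isLocalization Cq q.primeCompl T).2 inferInstance
  haveI : IsLocalHom (algebraMap Cq T) := ⟨fun z hz => by
    obtain ⟨a, s, rfl⟩ := IsLocalization.exists_mk'_eq q.primeCompl z
    rw [IsLocalization.AtPrime.isUnit_mk'_iff Cq q]
    intro ha
    have hz' : IsUnit (algebraMap Cq T (IsLocalization.mk' Cq a s)) := hz
    rw [RingHom.algebraMap_toAlgebra, IsLocalization.lift_mk'] at hz'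
    exact (mem_maximalIdeal _).1 ha (isUnit_of_mul_isUnit_left hz')⟩
  haveI : Module.FaithfullyFlat Cq T := Module.FaithfullyFlat.of_flat_of_isLocalHom
  haveI : Algebra.IsEpi Cq T := by
    haveI : Epi (CommRingCat.ofHom (algebraMap C T)) := CommRingCat.epi_iff_epi.2 inferInstance
    refine CommRingCat.epi_iff_epi.1 ?_
    rw [IsScalarTower.algebraMap_eq C Cq T, CommRingCat.ofHom_comp] at this
    exact epi_of_epi (CommRingCat.ofHom (algebraMap C Cq)) _
  exact IsLocalization.isLocalization_of_algEquiv q.primeCompl
    (AlgEquiv.ofBijective (IsScalarTower.toAlgHom C Cq T) (S6372.result Cq T))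

variable (k : Type u) [Field k] (K : Type u) [Field K] [Algebra k K]

/-- The algebraic form of the descent at a point. -/
theorem maximalIdeal_mem_weakAss (A T : Type u) [CommRing A] [IsLocalRing A] [Algebra k A]
    [CommRing T] [IsLocalRing T] [Algebra (A ⊗[k] K) T] [Algebra A T] [IsScalarTower A (A ⊗[k] K) T]
    [Module.Flat (A ⊗[k] K) T] [Algebra.IsEpi (A ⊗[k] K) T] [IsLocalHom (algebraMap A T)]
    (M : Type u) [AddCommGroup M] [Module A M]
    (h : maximalIdeal T ∈ FlatCA.weakAss T (T ⊗[A] M)) :
    maximalIdeal A ∈ FlatCA.weakAss A M := by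
  obtain ⟨c, hc⟩ := h
  let C := A ⊗[k] K
  let q := (maximalIdeal T).comap (algebraMap C T)
  haveI : IsLocalization.AtPrime T q := isLocalization_of_flat_epi
  let e : T ⊗[C] (C ⊗[A] M) ≃ₗ[T] T ⊗[A] M :=
    TensorProduct.AlgebraTensorModule.cancelBaseChange A C T T M
  haveI : IsLocalizedModule q.primeCompl (TensorProduct.mk C T (C ⊗[A] M) 1) :=
    (isLocalizedModule_iff_isBaseChange q.primeCompl T _).2 (TensorProduct.isBaseChange C (C ⊗[A] M) T)
  obtain ⟨⟨c', s⟩, hs⟩ := IsLocalizedModule.surj q.primeCompl (TensorProduct.mk C T (C ⊗[A] M) 1) (e.symm c)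
  have hann : annEl T c = (annEl C c').map (algebraMap C T) := by
    rw [← SDiv28.annEl_one_tmul]
    have h1 : annEl T c = annEl T (e.symm c) :=
      (CAlgH3.annEl_map_of_injective e.symm.toLinearMap e.symm.injective c).symm
    have hs' : algebraMap C T s • e.symm c = (1 : T) ⊗ₜ[C] c' := by
      rw [algebraMap_smul]; exact hs
    rw [h1, ← hs']
    ext r
    rw [mem_annEl, mem_annEl, smul_comm]
    exact (IsLocalization.map_units T s).smul_eq_zero.symm
  change maximalIdeal T ∈ (annEl T c).minimalPrimes at hc
  rw [hann] at hc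
  have hq : q ∈ (annEl C c').minimalPrimes := by
    refine ⟨⟨inferInstance, Ideal.map_le_iff_le_comap.1 hc.1.2⟩, ?_⟩
    rintro P ⟨hP, hJP⟩ hle
    have hd : Disjoint (q.primeCompl : Set C) (P : Set C) :=
      Set.disjoint_left.2 fun x hx hxP => hx (hle hxP)
    haveI := IsLocalization.isPrime_of_isPrime_disjoint q.primeCompl T P hP hd
    have h2 := hc.2 ⟨this, Ideal.map_mono hJP⟩ (IsLocalRing.le_maximalIdeal this.ne_top)
    have h3 := Ideal.comap_mono (f := algebraMap C T) h2
    rwa [← Ideal.under_def, ← Ideal.under_def,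
      IsLocalization.under_map_of_isPrime_disjoint q.primeCompl T hP hd] at h3
  haveI : Algebra.IsPushout k K A C := (inferInstance : Algebra.IsPushout k A K C).symm
  have h4 := comap_mem_weakAss k K A C M c' q hq
  rwa [show q.comap (algebraMap A C) = maximalIdeal A by
    rw [Ideal.comap_comap, ← IsScalarTower.algebraMap_eq]
    exact eq_maximalIdeal_comap A T] at h4
where
  eq_maximalIdeal_comap (A T : Type u) [CommRing A] [IsLocalRing A] [CommRing T] [IsLocalRing T]
      [Algebra A T] [IsLocalHom (algebraMap A T)] :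
      (maximalIdeal T).comap (algebraMap A T) = maximalIdeal A :=
    maximalIdeal_comap (algebraMap A T)

variable (X : Scheme.{u}) (f : X ⟶ Spec (CommRingCat.of k))

theorem isWeakAssPoint_of_baseChange (F : X.Modules)
    (y : ↥(pullback f (Spec.map (CommRingCat.ofHom (algebraMap k K)))))
    (hy : Curv2.IsWeakAssPoint ((Scheme.Modules.pullback
      (pullback.fst f (Spec.map (CommRingCat.ofHom (algebraMap k K))))).obj F) y) :
    Curv2.IsWeakAssPoint F (pullback.fst f (Spec.map (CommRingCat.ofHom (algebraMap k K))) y) := by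
  let b := Spec.map (CommRingCat.ofHom (algebraMap k K))
  let p := pullback.fst f b
  let x := p y
  let A := X.presheaf.stalk x
  let T := (pullback f b).presheaf.stalk y
  letI : Algebra k A := (Spec.preimage (X.fromSpecStalk x ≫ f)).hom.toAlgebra
  have hA : X.fromSpecStalk x ≫ f = Spec.map (CommRingCat.ofHom (algebraMap k A)) :=
    (Spec.map_preimage _).symm
  let pK : K →+* T := (Spec.preimage ((pullback f b).fromSpecStalk y ≫ pullback.snd f b)).hom
  have hpK : (pullback f b).fromSpecStalk y ≫ pullback.snd f b = Spec.map (CommRingCat.ofHom pK) :=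
    (Spec.map_preimage _).symm
  letI : Algebra A T := (p.stalkMap y).hom.toAlgebra
  letI : Algebra k T := ((algebraMap A T).comp (algebraMap k A)).toAlgebra
  haveI : IsScalarTower k A T := IsScalarTower.of_algebraMap_eq fun _ => rfl
  haveI : IsLocalHom (algebraMap A T) := inferInstanceAs (IsLocalHom (p.stalkMap y).hom)
  have hk : pK.comp (algebraMap k K) = algebraMap k T := by
    have h1 : Spec.map (CommRingCat.ofHom (pK.comp (algebraMap k K))) =
        Spec.map (CommRingCat.ofHom (algebraMap k T)) := by
      rw [CommRingCat.ofHom_comp, Spec.map_comp, ← hpK, Category.assoc, ← pullback.condition,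
        ← Scheme.SpecMap_stalkMap_fromSpecStalk_assoc p (x := y), hA, ← Spec.map_comp]
      rfl
    exact congrArg CommRingCat.Hom.hom (Spec.map_injective h1)
  let pK' : K →ₐ[k] T := { pK with commutes' := fun r => RingHom.congr_fun hk r }
  let φ : A ⊗[k] K →ₐ[A] T :=
    Algebra.TensorProduct.lift (Algebra.ofId A T) pK' (fun _ _ => Commute.all _ _)
  letI : Algebra (A ⊗[k] K) T := φ.toRingHom.toAlgebra
  haveI : IsScalarTower A (A ⊗[k] K) T := IsScalarTower.of_algHom φ
  let j : Spec (CommRingCat.of (A ⊗[k] K)) ⟶ pullback f b :=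
    (pullbackSpecIso k A K).inv ≫ pullback.map (Spec.map (CommRingCat.ofHom (algebraMap k A))) b f b
      (X.fromSpecStalk x) (𝟙 _) (𝟙 _) (by rw [Category.comp_id]; exact hA.symm) (by simp)
  let c := (pullback f b).fromSpecStalk y
  have hjc : Spec.map (CommRingCat.ofHom φ.toRingHom) ≫ j = c := by
    apply pullback.hom_ext
    · simp only [j, Category.assoc, pullback.lift_fst]
      rw [pullbackSpecIso_inv_fst_assoc, ← Spec.map_comp_assoc, ← CommRingCat.ofHom_comp,
        ← Scheme.SpecMap_stalkMap_fromSpecStalk p (x := y)]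
      congr 2
      ext r
      simp [φ, Algebra.ofId_apply]
      rfl
    · simp only [j, Category.assoc, pullback.lift_snd, Category.comp_id]
      rw [pullbackSpecIso_inv_snd, ← Spec.map_comp, ← CommRingCat.ofHom_comp, hpK]
      congr 2
      ext r
      simp [φ, pK']
  haveI : Mono j := by
    haveI : Mono (pullback.map (Spec.map (CommRingCat.ofHom (algebraMap k A))) b f b
      (X.fromSpecStalk x) (𝟙 _) (𝟙 _) (by rw [Category.comp_id]; exact hA.symm) (by simp)) := ⟨fun u v huv => by
      apply pullback.hom_ext
      · rw [← cancel_mono (X.fromSpecStalk x)]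
        have h := congrArg (· ≫ pullback.fst f b) huv
        simp only [Category.assoc, pullback.lift_fst] at h
        simpa [Category.assoc] using h
      · have h := congrArg (· ≫ pullback.snd f b) huv
        simp only [Category.assoc, pullback.lift_snd, Category.comp_id] at h
        exact h⟩
    exact mono_comp _ _
  haveI : Mono c := inferInstance
  haveI : Flat c := Props12.flat_fromSpecStalk y
  haveI hm : Mono (Spec.map (CommRingCat.ofHom φ.toRingHom)) := mono_of_mono_fac hjc
  haveI : Flat (Spec.map (CommRingCat.ofHom φ.toRingHom)) := by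
    refine MorphismProperty.of_isPullback (P := @Flat) (f' := 𝟙 _) (g := c) (f := j) ?_ inferInstance
    exact IsPullback.of_isLimit' ⟨by rw [Category.id_comp, hjc]⟩
      (PullbackCone.IsLimit.mk _ (fun s => s.fst) (fun s => Category.comp_id _)
        (fun s => by rw [← cancel_mono j, Category.assoc, hjc, s.condition])
        (fun s k h1 _ => by rw [← h1, Category.comp_id]))
  haveI : Module.Flat (A ⊗[k] K) T := (Flat.SpecMap_iff (f := CommRingCat.ofHom φ.toRingHom)).1 inferInstance
  haveI : Algebra.IsEpi (A ⊗[k] K) T := by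
    refine CommRingCat.epi_iff_epi.1 ?_
    haveI : Mono (Scheme.Spec.map (CommRingCat.ofHom φ.toRingHom).op) := hm
    haveI : Mono (CommRingCat.ofHom φ.toRingHom).op := Scheme.Spec.mono_of_mono_map inferInstance
    exact unop_epi_of_mono (CommRingCat.ofHom φ.toRingHom).op
  rw [SDiv28.isWeakAssPoint_iff_mem_weakAss] at hy ⊢
  let e : ((Scheme.Modules.pullback p).obj F).presheaf.stalk y ≃ₗ[T] T ⊗[A] (F.presheaf.stalk x) :=
    ((ModStalk.pullbackStalkIso p y).app F).toLinearEquiv
  exact maximalIdeal_mem_weakAss k K A T (F.presheaf.stalk x)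
    (CAlgH3.weakAss_subset_of_injective e.toLinearMap e.injective hy)

end Groth.Agent.WeakAssK8
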